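import Groth.Agent.AlgGrp.K774.TransMat

/-!
# Embedding data from charts and ratios (node N4 of `K401.PlanCompact`)

`nonempty_embData`: a torsor `π : G ⟶ Q` with equivariant invertible matrices on flat charts over affine opens `U j`,
which are the nonvanishing loci of sections with ratios `t i j`, has embedding data.
-/

set_option autoImplicit false
universe u
open CategoryTheory CategoryTheory.Limits MonoidalCategory CartesianMonoidalCategory
  AlgebraicGeometry TopologicalSpace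

namespace K774.EmbDesc

open CoactBr K690.Chart K690.EqMat K774.EvDesc K774.TransMat K401.CompDef

section loc

variable {Q : Scheme.{u}} {U V : Q.Opens} (hU : IsAffineOpen U) (t : Γ(Q, U)) (hV : V = Q.basicOpen t) (hVU : V ≤ U)
  {m m' : Type} [Fintype m] [Fintype m']

include hU hV in
lemma mat_ext (A : Matrix m m' Γ(Q, V)) : ∃ N₀ : ℕ, ∀ N ≥ N₀, ∃ B : Matrix m m' Γ(Q, U),
    B.map (Q.presheaf.map (homOfLE hVU).op) = Q.presheaf.map (homOfLE hVU).op t ^ N • A := by
  choose N B hB using fun i j => exists_ext hU t hV hVU (A i j)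
  refine ⟨∑ i, ∑ j, N i j, fun N' hN' => ⟨Matrix.of fun i j => t ^ (N' - N i j) * B i j, ?_⟩⟩
  ext i j
  have h1 : N i j ≤ N' := by
    refine le_trans ?_ hN'
    exact (Finset.single_le_sum (f := fun j => N i j) (fun _ _ => Nat.zero_le _) (Finset.mem_univ j)).trans
      (Finset.single_le_sum (f := fun i => ∑ j, N i j) (fun _ _ => Nat.zero_le _) (Finset.mem_univ i))
  rw [Matrix.map_apply, Matrix.of_apply, map_mul, hB, map_pow, ← mul_assoc, ← pow_add, Nat.sub_add_cancel h1,
    Matrix.smul_apply, smul_eq_mul]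

include hU hV in
lemma mat_zero (A : Matrix m m' Γ(Q, U)) (hA : A.map (Q.presheaf.map (homOfLE hVU).op) = 0) :
    ∃ N₀ : ℕ, ∀ N ≥ N₀, t ^ N • A = 0 := by
  choose N hN using fun i j => exists_zero hU t hV hVU (A i j) (congrFun (congrFun hA i) j)
  refine ⟨∑ i, ∑ j, N i j, fun N' hN' => ?_⟩
  ext i j
  have h1 : N i j ≤ N' := by
    refine le_trans ?_ hN'
    exact (Finset.single_le_sum (f := fun j => N i j) (fun _ _ => Nat.zero_le _) (Finset.mem_univ j)).trans
      (Finset.single_le_sum (f := fun i => ∑ j, N i j) (fun _ _ => Nat.zero_le _) (Finset.mem_univ i))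
  rw [Matrix.smul_apply, smul_eq_mul, ← Nat.sub_add_cancel h1, pow_add, mul_assoc, hN, mul_zero, Matrix.zero_apply]

end loc

section main

variable {k : Type u} [CommRing k] {M G Q : Over (Spec (CommRingCat.of k))} [GrpObj M]
  {a : AlgGrp.Action M G} {π : G ⟶ Q} (hcart : IsPullback a.act (snd M G) π π) [Q.left.IsSeparated]
  {n : ℕ} {ρ : MatRep k M n} {r : ℕ} {U : Fin r → Q.left.Opens} (t : ∀ _ j : Fin r, Γ(Q.left, U j))
  (haff : ∀ i, IsAffineOpen (U i)) (ht : ∀ i, t i i = 1)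
  (hb : ∀ i j, U i ⊓ U j = Q.left.basicOpen (t i j))
  (hm : ∀ i j l, Q.left.presheaf.map (homOfLE (inf_le_left : U j ⊓ U l ≤ U j)).op (t i j) =
      Q.left.presheaf.map (homOfLE (inf_le_right : U j ⊓ U l ≤ U l)).op (t i l) *
        Q.left.presheaf.map (homOfLE (inf_le_left : U j ⊓ U l ≤ U j)).op (t l j))
  (c : Fin r → Ch a ρ) (hfl : ∀ j, Flat ((c j).s ≫ π).left)
  (hr : ∀ j, Set.range ((c j).s ≫ π).left = (U j : Set Q.left))

include haff hb in
omit [Q.left.IsSeparated] in
lemma aff (i j : Fin r) : IsAffineOpen (U i ⊓ U j) := by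
  rw [hb]
  exact (haff j).basicOpen _

include hm in
omit [Q.left.IsSeparated] in
lemma ratio {C : Type u} [CommRing C] [Algebra k C] (q : sp k C ⟶ Q) (i j l : Fin r)
    (hj : ∀ z, q.left z ∈ U j) (hl : ∀ z, q.left z ∈ U l) :
    evk q (U j) hj (t i j) = evk q (U l) hl (t i l) * evk q (U j) hj (t l j) := by
  have hjl : ∀ z, q.left z ∈ U j ⊓ U l := fun z => ⟨hj z, hl z⟩
  have h1 := congrArg (evk q _ hjl) (hm i j l)
  rwa [map_mul, evk_res q inf_le_left hj, evk_res q inf_le_right hl, evk_res q inf_le_left hj] at h1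

lemma map_smul' {m m' : Type} {R S : Type u} [CommRing R] [CommRing S] (f : R →+* S) (x : R) (A : Matrix m m' R) :
    (x • A).map f = f x • A.map f := by
  ext i j
  simp

lemma map_map_evk {C : Type u} [CommRing C] [Algebra k C] (q : sp k C ⟶ Q) {W W' : Q.left.Opens} (hW : W' ≤ W)
    (h : ∀ z, q.left z ∈ W) (h' : ∀ z, q.left z ∈ W') {m m' : Type} (A : Matrix m m' Γ(Q.left, W)) :
    (A.map (Q.left.presheaf.map (homOfLE hW).op)).map (evk q W' h') = A.map (evk q W h) := by
  ext i j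
  rw [Matrix.map_apply, Matrix.map_apply, Matrix.map_apply, evk_res q hW h h']

include haff hb hm hfl hr in
/-- The extended transition matrices. -/
theorem exists_hat :
    ∃ (N : ℕ) (H : ∀ _ j : Fin r, Matrix (Fin n) (Fin n) Γ(Q.left, U j)),
      (∀ (j : Fin r) (C : Type u) [CommRing C] [Algebra k C] (x : (c j).R →ₐ[k] C) (q : sp k C ⟶ Q)
        (_ : q = (pt x ≫ (c j).s) ≫ π) (hq : ∀ z, q.left z ∈ U j),
          (H j j).map (evk q (U j) hq) = evk q (U j) hq (t j j) ^ N • 1) ∧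
      (∀ (i j l : Fin r) (C : Type u) [CommRing C] [Algebra k C] (x : (c j).R →ₐ[k] C) (y : (c l).R →ₐ[k] C)
        (h : (pt x ≫ (c j).s) ≫ π = (pt y ≫ (c l).s) ≫ π) (q : sp k C ⟶ Q) (_ : q = (pt x ≫ (c j).s) ≫ π)
        (hj : ∀ z, q.left z ∈ U j) (hl : ∀ z, q.left z ∈ U l),
          (H i j).map (evk q (U j) hj) * tm hcart (c j) (c l) x y h =
            evk q (U j) hj (t l j) ^ N • (H i l).map (evk q (U l) hl)) := by
  choose A hA using fun i j => exists_mat hcart (c i) (c j) (hfl i) (hfl j) (hr i) (hr j) (aff t haff hb i j)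
  choose N₁ hN₁ using fun i j => mat_ext (haff j) (t i j) (hb i j) inf_le_right (A i j)
  let N := ∑ i, ∑ j, N₁ i j
  have hN : ∀ i j, N₁ i j ≤ N := fun i j =>
    (Finset.single_le_sum (f := fun j => N₁ i j) (fun _ _ => Nat.zero_le _) (Finset.mem_univ j)).trans
      (Finset.single_le_sum (f := fun i => ∑ j, N₁ i j) (fun _ _ => Nat.zero_le _) (Finset.mem_univ i))
  choose B hB using fun i j => hN₁ i j N (hN i j)
  -- values of `B`
  have hBv : ∀ (i j : Fin r) (C : Type u) [CommRing C] [Algebra k C] (x : (c i).R →ₐ[k] C) (y : (c j).R →ₐ[k] C)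
      (h : (pt x ≫ (c i).s) ≫ π = (pt y ≫ (c j).s) ≫ π) (q : sp k C ⟶ Q) (_ : q = (pt x ≫ (c i).s) ≫ π)
      (hi : ∀ z, q.left z ∈ U i) (hj : ∀ z, q.left z ∈ U j),
      (B i j).map (evk q (U j) hj) = evk q (U j) hj (t i j) ^ N • tm hcart (c i) (c j) x y h := by
    intro i j C _ _ x y h q hqx hi hj
    have hij : ∀ z, q.left z ∈ U i ⊓ U j := fun z => ⟨hi z, hj z⟩
    rw [← map_map_evk q inf_le_right hj hij, hB i j, map_smul', map_pow, evk_res q inf_le_right hj hij,
      hA i j C x y h q hqx hij]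
  -- the defect
  let V : Fin r → Fin r → Fin r → Q.left.Opens := fun i j l => (U j ⊓ U l) ⊓ (U i ⊓ U j)
  let δ : ∀ i j l : Fin r, Matrix (Fin n) (Fin n) Γ(Q.left, U j ⊓ U l) := fun i j l =>
    (B i j).map (Q.left.presheaf.map (homOfLE (inf_le_left : U j ⊓ U l ≤ U j)).op) * A j l -
      (Q.left.presheaf.map (homOfLE (inf_le_left : U j ⊓ U l ≤ U j)).op (t l j)) ^ N •
        (B i l).map (Q.left.presheaf.map (homOfLE (inf_le_right : U j ⊓ U l ≤ U l)).op)
  have hδv : ∀ (i j l : Fin r) (C : Type u) [CommRing C] [Algebra k C] (y : (c j).R →ₐ[k] C) (z : (c l).R →ₐ[k] C)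
      (h : (pt y ≫ (c j).s) ≫ π = (pt z ≫ (c l).s) ≫ π) (q : sp k C ⟶ Q) (_ : q = (pt y ≫ (c j).s) ≫ π)
      (hj : ∀ z, q.left z ∈ U j) (hl : ∀ z, q.left z ∈ U l) (hjl : ∀ z, q.left z ∈ U j ⊓ U l),
      (δ i j l).map (evk q (U j ⊓ U l) hjl) = (B i j).map (evk q (U j) hj) * tm hcart (c j) (c l) y z h -
        evk q (U j) hj (t l j) ^ N • (B i l).map (evk q (U l) hl) := by
    intro i j l C _ _ y z h q hqy hj hl hjl
    have h1 : (δ i j l).map (evk q (U j ⊓ U l) hjl) =
        ((B i j).map (Q.left.presheaf.map (homOfLE (inf_le_left : U j ⊓ U l ≤ U j)).op)).map (evk q _ hjl) *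
          (A j l).map (evk q _ hjl) - ((Q.left.presheaf.map (homOfLE (inf_le_left : U j ⊓ U l ≤ U j)).op (t l j)) ^ N •
        (B i l).map (Q.left.presheaf.map (homOfLE (inf_le_right : U j ⊓ U l ≤ U l)).op)).map (evk q _ hjl) := by
      rw [← Matrix.map_mul]
      exact Matrix.map_sub _ (map_sub _) _ _
    rw [h1, map_map_evk q inf_le_left hj hjl, hA j l C y z h q hqy hjl, map_smul', map_pow,
      evk_res q inf_le_left hj hjl, map_map_evk q inf_le_right hl hjl]
  have hδ : ∀ i j l, (δ i j l).map (Q.left.presheaf.map (homOfLE (inf_le_left : V i j l ≤ U j ⊓ U l)).op) = 0 := by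
    intro i j l
    have hVaff : IsAffineOpen (V i j l) := by
      have h1 : V i j l = Q.left.basicOpen (Q.left.presheaf.map (homOfLE (inf_le_left : U j ⊓ U l ≤ U j)).op
          (t i j)) := by
        rw [Scheme.basicOpen_res, ← hb]
      rw [h1]
      exact (aff t haff hb j l).basicOpen _
    obtain ⟨D₁, _, _, x₁, y₁, hp₁⟩ := exists_pull ((c i).s ≫ π) ((c j).s ≫ π)
    have hfl₁ : Flat (pt x₁ ≫ (c i).s ≫ π).left := flat_pull (hp := hp₁) (h := hfl j) (q₁ := (c i).s ≫ π)
    have hran₁ := range_pull hp₁ (hr i) (hr j)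
    obtain ⟨D, _, _, l₁, z, hp⟩ := exists_pull (pt x₁ ≫ (c i).s ≫ π) ((c l).s ≫ π)
    have hfl' : Flat (pt l₁ ≫ pt x₁ ≫ (c i).s ≫ π).left := flat_pull (hp := hp) (h := hfl l)
    have hran := range_pull hp hran₁ (hr l)
    let x : (c i).R →ₐ[k] D := l₁.comp x₁
    let y : (c j).R →ₐ[k] D := l₁.comp y₁
    let q : sp k D ⟶ Q := pt l₁ ≫ pt x₁ ≫ (c i).s ≫ π
    have hqx : q = (pt x ≫ (c i).s) ≫ π := by
      simp only [q, x, pt_comp, Category.assoc]
    have hqy : q = (pt y ≫ (c j).s) ≫ π := by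
      simp only [q, y, pt_comp, Category.assoc]
      rw [hp₁.w]
    have hqz : q = (pt z ≫ (c l).s) ≫ π := by
      simp only [q, Category.assoc]
      rw [hp.w]
    have hmem : ∀ w, q.left w ∈ (U i ⊓ U j) ⊓ U l := by
      intro w
      have h1 : q.left w ∈ Set.range q.left := ⟨_, rfl⟩
      rw [hran] at h1
      exact h1
    have hi : ∀ w, q.left w ∈ U i := fun w => (hmem w).1.1
    have hj : ∀ w, q.left w ∈ U j := fun w => (hmem w).1.2
    have hl : ∀ w, q.left w ∈ U l := fun w => (hmem w).2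
    have hjl : ∀ w, q.left w ∈ U j ⊓ U l := fun w => ⟨hj w, hl w⟩
    have hV : ∀ w, q.left w ∈ V i j l := fun w => ⟨hjl w, hi w, hj w⟩
    have hranV : Set.range q.left = (V i j l : Set Q.left) := by
      rw [hran]
      ext w
      constructor
      · rintro ⟨⟨h1, h2⟩, h3⟩
        exact ⟨⟨h2, h3⟩, h1, h2⟩
      · rintro ⟨⟨h2, h3⟩, h1, -⟩
        exact ⟨⟨h1, h2⟩, h3⟩
    have hinj := evk_injective q hfl' (V i j l) hVaff hranV hV
    have h0 : ((δ i j l).map (Q.left.presheaf.map (homOfLE (inf_le_left : V i j l ≤ U j ⊓ U l)).op)).map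
        (evk q (V i j l) hV) = 0 := by
      have hxy : (pt x ≫ (c i).s) ≫ π = (pt y ≫ (c j).s) ≫ π := hqx.symm.trans hqy
      have hyz : (pt y ≫ (c j).s) ≫ π = (pt z ≫ (c l).s) ≫ π := hqy.symm.trans hqz
      rw [map_map_evk q inf_le_left hjl hV, hδv i j l D y z hyz q hqy hj hl hjl, hBv i j D x y hxy q hqx hi hj,
        hBv i l D x z (hxy.trans hyz) q hqx hi hl, ratio t hm q i j l hj hl, Matrix.smul_mul, tm_mul, smul_smul,
        mul_pow, mul_comm (evk q (U l) hl (t i l) ^ N), sub_self]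
    ext b₁ b₂
    apply hinj
    rw [Matrix.zero_apply, map_zero]
    exact congrFun (congrFun h0 b₁) b₂
  choose N₂ hN₂ using fun i j l => mat_zero (aff t haff hb j l)
    (Q.left.presheaf.map (homOfLE (inf_le_left : U j ⊓ U l ≤ U j)).op (t i j))
    (V := V i j l) (by rw [Scheme.basicOpen_res, ← hb]) inf_le_left (δ i j l) (hδ i j l)
  let N' := ∑ i, ∑ j, ∑ l, N₂ i j l
  have hN' : ∀ i j l, N₂ i j l ≤ N' := fun i j l =>
    (Finset.single_le_sum (f := fun l => N₂ i j l) (fun _ _ => Nat.zero_le _) (Finset.mem_univ l)).trans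
      ((Finset.single_le_sum (f := fun j => ∑ l, N₂ i j l) (fun _ _ => Nat.zero_le _) (Finset.mem_univ j)).trans
      (Finset.single_le_sum (f := fun i => ∑ j, ∑ l, N₂ i j l) (fun _ _ => Nat.zero_le _) (Finset.mem_univ i)))
  have hz := fun i j l => hN₂ i j l N' (hN' i j l)
  refine ⟨N + N', fun i j => t i j ^ N' • B i j, ?_, ?_⟩
  · intro j C _ _ x q hqx hj
    rw [map_smul', map_pow, hBv j j C x x rfl q hqx hj hj, tm_self, smul_smul, ← pow_add, add_comm]
  · intro i j l C _ _ y z h q hqy hj hl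
    have hjl : ∀ w, q.left w ∈ U j ⊓ U l := fun w => ⟨hj w, hl w⟩
    have h1 := congrArg (fun Z => Matrix.map Z (evk q (U j ⊓ U l) hjl)) (hz i j l)
    simp only [map_smul', map_pow] at h1
    rw [evk_res q inf_le_left hj hjl, hδv i j l C y z h q hqy hj hl hjl, Matrix.map_zero _ (map_zero _), smul_sub,
      sub_eq_zero] at h1
    rw [map_smul', map_pow, Matrix.smul_mul, h1, map_smul', map_pow, smul_smul, smul_smul,
      ratio t hm q i j l hj hl]
    congr 1
    ring

end main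

section stack

variable {r n m : ℕ} (e : Fin r × Fin n ≃ Fin m) {C C' : Type u} [CommRing C] [CommRing C']

/-- block matrices -/
def stack (B : Fin r → Matrix (Fin n) (Fin n) C) : Matrix (Fin m) (Fin n) C :=
  Matrix.of fun a b => B (e.symm a).1 (e.symm a).2 b

lemma stack_mul (B : Fin r → Matrix (Fin n) (Fin n) C) (X : Matrix (Fin n) (Fin n) C) :
    stack e B * X = stack e fun i => B i * X := by
  ext a b
  simp [stack, Matrix.mul_apply]

lemma stack_map (B : Fin r → Matrix (Fin n) (Fin n) C) (f : C → C') :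
    (stack e B).map f = stack e fun i => (B i).map f := by
  ext a b
  simp [stack]

lemma stack_smul (B : Fin r → Matrix (Fin n) (Fin n) C) (x : C) :
    x • stack e B = stack e fun i => x • B i := by
  ext a b
  simp [stack]

/-- a block row -/
def row (j : Fin r) (X : Matrix (Fin n) (Fin n) C) : Matrix (Fin n) (Fin m) C :=
  Matrix.of fun a b => if (e.symm b).1 = j then X a (e.symm b).2 else 0

lemma row_mul_stack (j : Fin r) (X : Matrix (Fin n) (Fin n) C) (B : Fin r → Matrix (Fin n) (Fin n) C) :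
    row e j X * stack e B = X * B j := by
  ext a b
  rw [Matrix.mul_apply, Matrix.mul_apply, ← Equiv.sum_comp e, Fintype.sum_prod_type]
  rw [Finset.sum_eq_single j]
  · simp [row, stack]
  · intro i _ hi
    simp [row, stack, hi]
  · simp

end stack

/-- **Embedding data from charts and ratios** (node N4 of `K401.PlanCompact`). -/
theorem nonempty_embData {k : Type u} [Field k] {M G Q : Over (Spec (CommRingCat.of k))} [GrpObj M]
    {a : AlgGrp.Action M G} {π : G ⟶ Q} (hcart : IsPullback a.act (snd M G) π π) [Q.left.IsSeparated]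
    {n : ℕ} (ρ : MatRep k M (n + 1)) (r : ℕ) (U : Fin r → Q.left.Opens) (t : ∀ _ j : Fin r, Γ(Q.left, U j))
    (hU : ⨆ i, U i = ⊤) (haff : ∀ i, IsAffineOpen (U i)) (ht : ∀ i, t i i = 1)
    (hb : ∀ i j, U i ⊓ U j = Q.left.basicOpen (t i j))
    (hm : ∀ i j l, Q.left.presheaf.map (homOfLE (inf_le_left : U j ⊓ U l ≤ U j)).op (t i j) =
        Q.left.presheaf.map (homOfLE (inf_le_right : U j ⊓ U l ≤ U l)).op (t i l) *
          Q.left.presheaf.map (homOfLE (inf_le_left : U j ⊓ U l ≤ U j)).op (t l j))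
    (R : Fin r → Type u) [∀ j, CommRing (R j)] [∀ j, Algebra k (R j)] (s : ∀ j, sp k (R j) ⟶ G)
    (M₀ : ∀ j, Matrix (Fin (n + 1)) (Fin (n + 1)) (R j)) (hfl : ∀ j, Flat (s j ≫ π).left)
    (hr : ∀ j, Set.range (s j ≫ π).left = (U j : Set Q.left)) (hdet : ∀ j, IsUnit (M₀ j).det)
    (hM : ∀ (j : Fin r) (C : Type u) [CommRing C] [Algebra k C] (x y : R j →ₐ[k] C) (g : sp k C ⟶ M),
      lift g (pt y ≫ s j) ≫ a.act = pt x ≫ s j → ρ.c g * (M₀ j).map y = (M₀ j).map x) :
    Nonempty (EmbData a π ρ) := by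
  have hcov : ∀ q : Q.left, ∃ j, q ∈ Set.range (s j ≫ π).left := by
    intro q
    have h1 : q ∈ ⨆ i, U i := by rw [hU]; trivial
    rw [Opens.mem_iSup] at h1
    obtain ⟨i, hi⟩ := h1
    exact ⟨i, by rw [hr]; exact hi⟩
  obtain _ | r := r
  · exact ⟨{ r := 0, R := R, s := s, flat := hfl, cover := hcov, m := 0, F := fun j => j.elim0,
             F' := fun j => j.elim0, inv := fun j => j.elim0, compat := fun j => j.elim0 }⟩
  let c : Fin (r + 1) → Ch a ρ := fun j =>
    { R := R j, s := s j, mat := M₀ j, hdet := hdet j, hM := hM j }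
  obtain ⟨N, H, hH₁, hH₂⟩ := exists_hat hcart t haff hb hm c hfl hr
  let m : ℕ := (r + 1) * (n + 1) - 1
  have hm1 : (r + 1) * (n + 1) = m + 1 := by
    have : 0 < (r + 1) * (n + 1) := Nat.mul_pos (Nat.succ_pos _) (Nat.succ_pos _)
    omega
  let e : Fin (r + 1) × Fin (n + 1) ≃ Fin (m + 1) := finProdFinEquiv.trans (finCongr hm1)
  have hmem : ∀ j, ∀ z, (s j ≫ π).left z ∈ U j := by
    intro j z
    have h1 : (s j ≫ π).left z ∈ Set.range (s j ≫ π).left := ⟨_, rfl⟩
    rw [hr] at h1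
    exact h1
  let v : ∀ j, Γ(Q.left, U j) →+* R j := fun j => evk (s j ≫ π) (U j) (hmem j)
  -- values of the functions
  have hv : ∀ (j : Fin (r + 1)) (C : Type u) [CommRing C] [Algebra k C] (x : R j →ₐ[k] C) (i : Fin (r + 1))
      (q : sp k C ⟶ Q) (_ : q = (pt x ≫ s j) ≫ π) (hq : ∀ z, q.left z ∈ U j),
      ((H i j).map (v j)).map x = (H i j).map (evk q (U j) hq) := by
    intro j C _ _ x i q hqx hq
    have hqx' : q = pt x ≫ s j ≫ π := by rw [hqx, Category.assoc]
    subst hqx'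
    ext a₁ a₂
    rw [Matrix.map_apply, Matrix.map_apply, Matrix.map_apply, evk_comp x _ _ (hmem j) hq]
  refine ⟨{ r := r + 1, R := R, s := s, flat := hfl, cover := hcov, m := m
            F := fun j => stack e fun i => (H i j).map (v j) * (M₀ j)⁻¹
            F' := fun j => row e j (M₀ j)
            inv := ?_
            compat := ?_ }⟩
  · intro j
    rw [row_mul_stack]
    have h1 := hH₁ j (R j) (AlgHom.id k (R j)) (s j ≫ π) (by rw [pt_id, Category.id_comp]) (hmem j)
    rw [ht, map_one, one_pow, one_smul] at h1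
    change M₀ j * ((H j j).map (evk (s j ≫ π) (U j) (hmem j)) * (M₀ j)⁻¹) = 1
    rw [h1, Matrix.one_mul, Matrix.mul_nonsing_inv _ (hdet j)]
  · intro j l C _ _ x y g hg
    have h : (pt x ≫ s j) ≫ π = (pt y ≫ s l) ≫ π := by
      rw [← hg, Category.assoc, hcart.w, ← Category.assoc, lift_snd]
    let q : sp k C ⟶ Q := (pt x ≫ s j) ≫ π
    have hj : ∀ z, q.left z ∈ U j := by
      have h1 : q = pt x ≫ s j ≫ π := Category.assoc _ _ _
      rw [h1]
      exact mem_comp x _ (hmem j)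
    have hl : ∀ z, q.left z ∈ U l := by
      have h1 : q = pt y ≫ s l ≫ π := h.trans (Category.assoc _ _ _)
      rw [h1]
      exact mem_comp y _ (hmem l)
    have hu : IsUnit (evk q (U j) hj (t l j)) := by
      apply isUnit_evk
      intro z
      rw [← hb]
      exact ⟨hl z, hj z⟩
    obtain ⟨w, hw⟩ := hu.pow N
    refine ⟨w, ?_⟩
    rw [hw, stack_map, stack_map, stack_mul, stack_smul]
    congr 1
    funext i
    have h1 : ((H i j).map (v j) * (M₀ j)⁻¹).map x = (H i j).map (evk q (U j) hj) * ((M₀ j).map x)⁻¹ := by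
      rw [Matrix.map_mul, hv j C x i q rfl hj]
      congr 1
      have h3 := map_inv (c j) (AlgHom.id k (R j)) x
      have h4 : (M₀ j).map (AlgHom.id k (R j)) = M₀ j := by ext; rfl
      change (((M₀ j).map (AlgHom.id k (R j)))⁻¹).map x = ((M₀ j).map (x.comp (AlgHom.id k (R j))))⁻¹ at h3
      rw [h4] at h3
      exact h3
    have h2 : ((H i l).map (v l) * (M₀ l)⁻¹).map y = (H i l).map (evk q (U l) hl) * ((M₀ l).map y)⁻¹ := by
      rw [Matrix.map_mul, hv l C y i q h hl]
      congr 1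
      have h3 := map_inv (c l) (AlgHom.id k (R l)) y
      have h4 : (M₀ l).map (AlgHom.id k (R l)) = M₀ l := by ext; rfl
      change (((M₀ l).map (AlgHom.id k (R l)))⁻¹).map y = ((M₀ l).map (y.comp (AlgHom.id k (R l))))⁻¹ at h3
      rw [h4] at h3
      exact h3
    have h3 := hH₂ i j l C x y h q rfl hj hl
    have h4 : tm hcart (c j) (c l) x y h = ((M₀ j).map x)⁻¹ * ρ.c g * (M₀ l).map y := by
      have h5 : g = trans hcart (pt x ≫ s j) (pt y ≫ s l) h := trans_unique hcart _ _ h g hg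
      rw [tm, ← h5]
    have h5 : (M₀ l).map y * ((M₀ l).map y)⁻¹ = 1 := mul_inv (c l) y
    rw [h1, h2, ← Matrix.smul_mul, ← h3, h4, Matrix.mul_assoc, Matrix.mul_assoc, Matrix.mul_assoc, h5,
      Matrix.mul_one]

end K774.EmbDesc
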