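import Groth.Agent.AlgGrp.K401.CompDef
import Groth.Agent.GIT.K690.EqMat
import Mathlib.RingTheory.Flat.FaithfullyFlat.Algebra
import Mathlib.AlgebraicGeometry.Morphisms.Separated

/-!
# Values of functions at points, descent of functions along flat charts

* `ev f W h`: value at a point `f : Spec C ⟶ Q` of the functions on an open `W` containing `f`.
* `exists_desc`: a function on a flat chart `p : Spec S ⟶ Q` with image the affine open `W`, with equal values at points
  with the same image, comes from a function on `W`; `ev_injective`.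
* `exists_pull`: two flat charts have a common refinement representing pairs of points with the same image.
* `exists_ext`, `exists_zero`: extension of a function from a basic open after multiplication by a power.
-/

set_option autoImplicit false
universe u
open CategoryTheory CategoryTheory.Limits MonoidalCategory CartesianMonoidalCategory
  AlgebraicGeometry TopologicalSpace

namespace K774.EvDesc

open CoactBr K690.Chart TensorProduct

open TensorProduct in
/-- Faithfully flat descent of elements. -/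
lemma mem_range_of_tmul_eq {R B : Type*} [CommRing R] [CommRing B] [Algebra R B]
    [Module.FaithfullyFlat R B] (x : B) (h : (1 : B) ⊗ₜ[R] x = x ⊗ₜ[R] 1) :
    x ∈ LinearMap.range (Algebra.linearMap R B) := by
  let D : Submodule R B := LinearMap.range (Algebra.linearMap R B)
  have h1 : (1 : B) ⊗ₜ[R] (D.mkQ x) = 0 := by
    have h2 := congrArg (LinearMap.lTensor B D.mkQ) h
    rw [LinearMap.lTensor_tmul, LinearMap.lTensor_tmul] at h2
    have h3 : D.mkQ (1 : B) = 0 := by
      rw [← LinearMap.mem_ker, Submodule.ker_mkQ]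
      exact ⟨1, by simp⟩
    rw [h3, TensorProduct.tmul_zero] at h2
    exact h2
  have h4 := Module.FaithfullyFlat.tensorProduct_mk_injective (A := R) (B := B) (B ⧸ D)
    (a₁ := D.mkQ x) (a₂ := 0) (by simpa using h1)
  rwa [← LinearMap.mem_ker, Submodule.ker_mkQ] at h4

section ev

variable {Q : Scheme.{u}} {C C' : Type u} [CommRing C] [CommRing C']

/-- The value at `f : Spec C ⟶ Q` of a function on an open containing the image of `f`. -/
noncomputable def ev (f : Spec (CommRingCat.of C) ⟶ Q) (W : Q.Opens) (h : ∀ z, f z ∈ W) : Γ(Q, W) →+* C :=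
  (f.appLE W ⊤ (fun z _ => h z) ≫ (Scheme.ΓSpecIso (CommRingCat.of C)).hom).hom

lemma ev_congr {f g : Spec (CommRingCat.of C) ⟶ Q} (hfg : f = g) (W : Q.Opens) (h : ∀ z, f z ∈ W)
    (h' : ∀ z, g z ∈ W) (b : Γ(Q, W)) : ev f W h b = ev g W h' b := by
  subst hfg; rfl

lemma ev_res (f : Spec (CommRingCat.of C) ⟶ Q) {W W' : Q.Opens} (hW : W' ≤ W) (h : ∀ z, f z ∈ W)
    (h' : ∀ z, f z ∈ W') (b : Γ(Q, W)) :
    ev f W' h' (Q.presheaf.map (homOfLE hW).op b) = ev f W h b := by
  have h1 : Q.presheaf.map (homOfLE hW).op ≫ f.appLE W' ⊤ (fun z _ => h' z) = f.appLE W ⊤ (fun z _ => h z) :=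
    Scheme.Hom.map_appLE _ _ _
  have h2 := congr(($h1 ≫ (Scheme.ΓSpecIso (CommRingCat.of C)).hom).hom b)
  exact h2

lemma ev_comp (x : C →+* C') (f : Spec (CommRingCat.of C) ⟶ Q) (W : Q.Opens) (h : ∀ z, f z ∈ W)
    (h' : ∀ z, (Spec.map (CommRingCat.ofHom x) ≫ f) z ∈ W) (b : Γ(Q, W)) :
    ev (Spec.map (CommRingCat.ofHom x) ≫ f) W h' b = x (ev f W h b) := by
  have h1 : (Spec.map (CommRingCat.ofHom x) ≫ f).appLE W ⊤ (fun z _ => h' z) =
      f.appLE W ⊤ (fun z _ => h z) ≫ (Spec.map (CommRingCat.ofHom x)).appTop := by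
    have h3 := Scheme.Hom.appLE_comp_appLE (Spec.map (CommRingCat.ofHom x)) f W ⊤ ⊤ (fun z _ => h z) (fun z _ => trivial)
    rw [← h3]
    congr 1
  have h2 : (Spec.map (CommRingCat.ofHom x)).appTop ≫ (Scheme.ΓSpecIso (CommRingCat.of C')).hom =
      (Scheme.ΓSpecIso (CommRingCat.of C)).hom ≫ CommRingCat.ofHom x :=
    Scheme.ΓSpecIso_naturality _
  have h3 : (Spec.map (CommRingCat.ofHom x) ≫ f).appLE W ⊤ (fun z _ => h' z) ≫
      (Scheme.ΓSpecIso (CommRingCat.of C')).hom =
      (f.appLE W ⊤ (fun z _ => h z) ≫ (Scheme.ΓSpecIso (CommRingCat.of C)).hom) ≫ CommRingCat.ofHom x := by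
    rw [h1, Category.assoc, h2, Category.assoc]
  exact congr(($h3).hom b)

lemma spec_ev_fromSpec (f : Spec (CommRingCat.of C) ⟶ Q) (W : Q.Opens) (hW : IsAffineOpen W) (h : ∀ z, f z ∈ W) :
    Spec.map (CommRingCat.ofHom (ev f W h)) ≫ hW.fromSpec = f := by
  have h1 := hW.SpecMap_appLE_fromSpec f (isAffineOpen_top (Spec (CommRingCat.of C))) (fun z _ => h z)
  rw [IsAffineOpen.fromSpec_top, Scheme.isoSpec_Spec_inv] at h1
  have h2 : CommRingCat.ofHom (ev f W h) = f.appLE W ⊤ (fun z _ => h z) ≫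
      (Scheme.ΓSpecIso (CommRingCat.of C)).hom := rfl
  rw [h2, Spec.map_comp, Category.assoc, h1, ← Category.assoc, ← Spec.map_comp, Iso.inv_hom_id, Spec.map_id,
    Category.id_comp]

lemma isUnit_ev {f : Spec (CommRingCat.of C) ⟶ Q} {W : Q.Opens} {h : ∀ z, f z ∈ W} {b : Γ(Q, W)}
    (hb : ∀ z, f z ∈ Q.basicOpen b) : IsUnit (ev f W h b) := by
  rw [← ev_res f (Q.basicOpen_le b) h hb]
  exact (RingedSpace.isUnit_res_basicOpen _ b).map (ev f (Q.basicOpen b) hb)

section flat

variable (p : Spec (CommRingCat.of C) ⟶ Q) [Flat p] (W : Q.Opens) (hW : IsAffineOpen W)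
  (hr : Set.range p = (W : Set Q))

include hW hr in
lemma faithfullyFlat_ev (h : ∀ z, p z ∈ W) : (ev p W h).FaithfullyFlat := by
  have h1 := spec_ev_fromSpec p W hW h
  have h2 : Flat (Spec.map (CommRingCat.ofHom (ev p W h))) := by
    have h3 : Flat (Spec.map (CommRingCat.ofHom (ev p W h)) ≫ hW.fromSpec) := by rw [h1]; infer_instance
    exact (MorphismProperty.IsStableUnderBaseChange.hasOfPostcompProperty_monomorphisms (P := @Flat)).of_postcomp _
      hW.fromSpec (inferInstance : Mono hW.fromSpec) h3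
  refine RingHom.FaithfullyFlat.iff_flat_and_comap_surjective.2 ⟨Flat.SpecMap_iff.1 h2, ?_⟩
  intro q
  have h4 : hW.fromSpec q ∈ W := by
    have h5 : hW.fromSpec q ∈ Set.range hW.fromSpec := ⟨q, rfl⟩
    rwa [hW.range_fromSpec] at h5
  have h6 : hW.fromSpec q ∈ Set.range p := by rw [hr]; exact h4
  obtain ⟨z, hz⟩ := h6
  refine ⟨z, ?_⟩
  have h7 : hW.fromSpec (Spec.map (CommRingCat.ofHom (ev p W h)) z) = hW.fromSpec q := by
    rw [← hz, ← Scheme.Hom.comp_apply, h1]
  exact hW.fromSpec.injective h7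

include hW hr in
lemma ev_injective (h : ∀ z, p z ∈ W) : Function.Injective (ev p W h) :=
  (faithfullyFlat_ev p W hW hr h).injective

include hW hr in
/-- Descent of functions along a flat chart. -/
theorem exists_desc (h : ∀ z, p z ∈ W) (e : C)
    (he : ∀ (D : Type u) [CommRing D] (x y : C →+* D),
      Spec.map (CommRingCat.ofHom x) ≫ p = Spec.map (CommRingCat.ofHom y) ≫ p → x e = y e) :
    ∃ b : Γ(Q, W), ev p W h b = e := by
  let _ : Algebra Γ(Q, W) C := (ev p W h).toAlgebra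
  have hff : Module.FaithfullyFlat Γ(Q, W) C := faithfullyFlat_ev p W hW hr h
  have h1 : (1 : C) ⊗ₜ[Γ(Q, W)] e = e ⊗ₜ[Γ(Q, W)] 1 := by
    refine he _ (Algebra.TensorProduct.includeRight : C →ₐ[Γ(Q, W)] TensorProduct Γ(Q, W) C C).toRingHom
      (Algebra.TensorProduct.includeLeft : C →ₐ[Γ(Q, W)] TensorProduct Γ(Q, W) C C).toRingHom ?_
    rw [← spec_ev_fromSpec p W hW h, ← Category.assoc, ← Category.assoc, ← Spec.map_comp, ← Spec.map_comp]
    congr 2
    ext b
    change (1 : C) ⊗ₜ[Γ(Q, W)] (algebraMap Γ(Q, W) C b) = (algebraMap Γ(Q, W) C b) ⊗ₜ[Γ(Q, W)] (1 : C)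
    rw [Algebra.algebraMap_eq_smul_one, TensorProduct.tmul_smul, TensorProduct.smul_tmul']
  obtain ⟨b, hb⟩ := mem_range_of_tmul_eq e h1
  exact ⟨b, hb⟩

end flat

end ev

section pull

variable {k : Type u} [CommRing k] {Q : Over (Spec (CommRingCat.of k))}

/-- A common refinement of two charts, representing pairs of points with the same image. -/
lemma exists_pull [Q.left.IsSeparated] {S₁ S₂ : Type u} [CommRing S₁] [Algebra k S₁] [CommRing S₂] [Algebra k S₂]
    (q₁ : sp k S₁ ⟶ Q) (q₂ : sp k S₂ ⟶ Q) :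
    ∃ (D : Type u) (_ : CommRing D) (_ : Algebra k D) (l : S₁ →ₐ[k] D) (r : S₂ →ₐ[k] D),
      IsPullback (pt l) (pt r) q₁ q₂ := by
  have hp := IsPullback.of_hasPullback q₁ q₂
  have h1 : IsAffineHom q₂.left := by
    have : IsAffine (sp k S₂).left := inferInstanceAs (IsAffine (Spec (CommRingCat.of S₂)))
    have h2 : IsAffineHom (q₂.left ≫ terminal.from Q.left) := inferInstance
    have h3 : IsSeparated (terminal.from Q.left) := Scheme.IsSeparated.isSeparated_terminal_from
    exact IsAffineHom.of_comp q₂.left (terminal.from Q.left)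
  have hB : IsAffine (sp k S₁).left := inferInstanceAs (IsAffine (Spec (CommRingCat.of S₁)))
  have h1 : IsAffineHom (pullback.fst q₁ q₂).left :=
    MorphismProperty.of_isPullback (P := @IsAffineHom) ((hp.map (Over.forget _)).flip) ‹_›
  have h2 : IsAffine (pullback q₁ q₂).left :=
    isAffine_of_isAffineHom (pullback.fst q₁ q₂).left
  obtain ⟨D, _, _, ⟨e⟩⟩ := exists_iso_sp (pullback q₁ q₂)
  obtain ⟨l, hl⟩ := exists_pt (e.hom ≫ pullback.fst q₁ q₂)
  obtain ⟨r, hr⟩ := exists_pt (e.hom ≫ pullback.snd q₁ q₂)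
  refine ⟨D, inferInstance, inferInstance, l, r, ?_⟩
  rw [hl, hr]
  exact hp.of_iso e.symm (Iso.refl _) (Iso.refl _) (Iso.refl _) (by simp) (by simp) (by simp)
    (by simp)

variable {S₁ S₂ D : Type u} [CommRing S₁] [Algebra k S₁] [CommRing S₂] [Algebra k S₂] [CommRing D] [Algebra k D]
  {q₁ : sp k S₁ ⟶ Q} {q₂ : sp k S₂ ⟶ Q} {l : S₁ →ₐ[k] D} {r : S₂ →ₐ[k] D}
  (hp : IsPullback (pt l) (pt r) q₁ q₂)

include hp in
lemma flat_pull [Flat q₁.left] [h : Flat q₂.left] : Flat (pt l ≫ q₁).left := by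
  have h1 : Flat (pt l).left :=
    MorphismProperty.of_isPullback (P := @Flat) ((hp.map (Over.forget _)).flip) h
  rw [Over.comp_left]
  infer_instance

include hp in
lemma range_pull {W₁ W₂ : Q.left.Opens} (h₁ : Set.range q₁.left = (W₁ : Set Q.left))
    (h₂ : Set.range q₂.left = (W₂ : Set Q.left)) :
    Set.range (pt l ≫ q₁).left = ((W₁ ⊓ W₂ : Q.left.Opens) : Set Q.left) := by
  have hp' : IsPullback (pt l).left (pt r).left q₁.left q₂.left := hp.map (Over.forget _)
  ext z
  constructor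
  · rintro ⟨w, rfl⟩
    constructor
    · rw [SetLike.mem_coe, ← SetLike.mem_coe, ← h₁, Over.comp_left, Scheme.Hom.comp_apply]
      exact ⟨_, rfl⟩
    · rw [SetLike.mem_coe, ← SetLike.mem_coe, ← h₂, hp.w, Over.comp_left, Scheme.Hom.comp_apply]
      exact ⟨_, rfl⟩
  · rintro ⟨hz₁, hz₂⟩
    rw [← h₁] at hz₁
    rw [← h₂] at hz₂
    obtain ⟨z₁, hz₁⟩ := hz₁
    obtain ⟨z₂, hz₂⟩ := hz₂
    obtain ⟨w, hw₁, hw₂⟩ := Scheme.Pullback.exists_preimage_pullback (f := q₁.left) (g := q₂.left) z₁ z₂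
      (hz₁.trans hz₂.symm)
    refine ⟨hp'.isoPullback.inv w, ?_⟩
    rw [Over.comp_left, Scheme.Hom.comp_apply, ← hz₁, ← hw₁]
    congr 1
    have h3 : hp'.isoPullback.inv ≫ (pt l).left = pullback.fst q₁.left q₂.left := hp'.isoPullback_inv_fst
    rw [← h3, Scheme.Hom.comp_apply]

include hp in
/-- Pairs of points with the same image are points of the refinement. -/
lemma exists_lift {C : Type u} [CommRing C] [Algebra k C] (x : S₁ →ₐ[k] C) (y : S₂ →ₐ[k] C)
    (h : pt x ≫ q₁ = pt y ≫ q₂) : ∃ z : D →ₐ[k] C, z.comp l = x ∧ z.comp r = y := by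
  obtain ⟨z, hz⟩ := exists_pt (hp.lift (pt x) (pt y) h)
  refine ⟨z, ?_, ?_⟩
  · apply pt_injective
    rw [pt_comp, hz, hp.lift_fst]
  · apply pt_injective
    rw [pt_comp, hz, hp.lift_snd]

end pull

section evk

variable {k : Type u} [CommRing k] {Q : Over (Spec (CommRingCat.of k))}
  {C C' : Type u} [CommRing C] [Algebra k C] [CommRing C'] [Algebra k C']

/-- `ev` over `Spec k`. -/
noncomputable def evk (f : sp k C ⟶ Q) (W : Q.left.Opens) (h : ∀ z, f.left z ∈ W) : Γ(Q.left, W) →+* C :=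
  ev (C := C) f.left W h

lemma evk_congr {f g : sp k C ⟶ Q} (hfg : f = g) (W : Q.left.Opens) (h : ∀ z, f.left z ∈ W)
    (h' : ∀ z, g.left z ∈ W) : evk f W h = evk g W h' := by
  subst hfg; rfl

lemma evk_res (f : sp k C ⟶ Q) {W W' : Q.left.Opens} (hW : W' ≤ W) (h : ∀ z, f.left z ∈ W)
    (h' : ∀ z, f.left z ∈ W') (b : Γ(Q.left, W)) :
    evk f W' h' (Q.left.presheaf.map (homOfLE hW).op b) = evk f W h b :=
  ev_res (C := C) f.left hW h h' b

lemma mem_comp (x : C →ₐ[k] C') (f : sp k C ⟶ Q) {W : Q.left.Opens} (h : ∀ z, f.left z ∈ W) :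
    ∀ z, (pt x ≫ f).left z ∈ W := by
  intro z
  rw [Over.comp_left, Scheme.Hom.comp_apply]
  exact h _

lemma evk_comp (x : C →ₐ[k] C') (f : sp k C ⟶ Q) (W : Q.left.Opens) (h : ∀ z, f.left z ∈ W)
    (h' : ∀ z, (pt x ≫ f).left z ∈ W) (b : Γ(Q.left, W)) :
    evk (pt x ≫ f) W h' b = x (evk f W h b) :=
  ev_comp (C := C) (C' := C') x.toRingHom f.left W h h' b

lemma isUnit_evk {f : sp k C ⟶ Q} {W : Q.left.Opens} {h : ∀ z, f.left z ∈ W} {b : Γ(Q.left, W)}
    (hb : ∀ z, f.left z ∈ Q.left.basicOpen b) : IsUnit (evk f W h b) :=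
  isUnit_ev (C := C) hb

lemma evk_injective (p : sp k C ⟶ Q) (hfl : Flat p.left) (W : Q.left.Opens) (hW : IsAffineOpen W)
    (hr : Set.range p.left = (W : Set Q.left)) (h : ∀ z, p.left z ∈ W) : Function.Injective (evk p W h) := by
  have : Flat (X := Spec (CommRingCat.of C)) p.left := hfl
  exact ev_injective (C := C) p.left W hW hr h

theorem exists_desc_k (p : sp k C ⟶ Q) (hfl : Flat p.left) (W : Q.left.Opens) (hW : IsAffineOpen W)
    (hr : Set.range p.left = (W : Set Q.left)) (h : ∀ z, p.left z ∈ W) (e : C)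
    (he : ∀ (D : Type u) [CommRing D] [Algebra k D] (x y : C →ₐ[k] D), pt x ≫ p = pt y ≫ p → x e = y e) :
    ∃ b : Γ(Q.left, W), evk p W h b = e := by
  have : Flat (X := Spec (CommRingCat.of C)) p.left := hfl
  refine exists_desc (C := C) p.left W hW hr h e ?_
  intro D _ x y hxy
  let _ : Algebra k D := (x.comp (algebraMap k C)).toAlgebra
  have hy : y.comp (algebraMap k C) = x.comp (algebraMap k C) := by
    have h1 : Spec.map (CommRingCat.ofHom (algebraMap k C)) = p.left ≫ Q.hom := (Over.w p).symm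
    have h2 : Spec.map (CommRingCat.ofHom x) ≫ Spec.map (CommRingCat.ofHom (algebraMap k C)) =
        Spec.map (CommRingCat.ofHom y) ≫ Spec.map (CommRingCat.ofHom (algebraMap k C)) := by
      rw [h1]
      exact (Category.assoc _ _ _).symm.trans (congr($hxy ≫ Q.hom).trans (Category.assoc _ _ _))
    rw [← Spec.map_comp, ← Spec.map_comp, Spec.map_inj] at h2
    exact congr(($h2).hom).symm
  let x' : C →ₐ[k] D := { x with commutes' := fun r => rfl }
  let y' : C →ₐ[k] D := { y with commutes' := fun r => DFunLike.congr_fun hy r }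
  exact he D x' y' (by ext1; exact hxy)

end evk

section loc

variable {Q : Scheme.{u}} {U V : Q.Opens} (hU : IsAffineOpen U) (t : Γ(Q, U)) (hV : V = Q.basicOpen t) (hVU : V ≤ U)

include hU hV in
lemma exists_ext (b : Γ(Q, V)) : ∃ (N : ℕ) (b' : Γ(Q, U)),
    Q.presheaf.map (homOfLE hVU).op b' = Q.presheaf.map (homOfLE hVU).op t ^ N * b := by
  subst hV
  have := hU.isLocalization_basicOpen t
  obtain ⟨⟨b', ⟨_, N, rfl⟩⟩, h⟩ := IsLocalization.surj (Submonoid.powers t) b
  refine ⟨N, b', ?_⟩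
  rw [mul_comm, ← map_pow]
  exact h.symm

include hU hV in
lemma exists_zero (b : Γ(Q, U)) (hb : Q.presheaf.map (homOfLE hVU).op b = 0) : ∃ N : ℕ, t ^ N * b = 0 := by
  subst hV
  have := hU.isLocalization_basicOpen t
  obtain ⟨⟨_, N, rfl⟩, h⟩ := (IsLocalization.map_eq_zero_iff (Submonoid.powers t) Γ(Q, Q.basicOpen t) b).1 hb
  exact ⟨N, h⟩

end loc

end K774.EvDesc
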