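import Groth.Agent.AlgGrp.K774.EvDesc

/-!
# The transition matrices of a vector bundle associated with a torsor

`Ch a ρ`: a chart `s : Spec R ⟶ G` of the torsor `π : G ⟶ Q` with an invertible equivariant matrix.  For two charts the
transition matrix `tm` depends only on the point of `Q` (`tm_indep`), so it descends (`exists_mat`).
-/

set_option autoImplicit false
universe u
open CategoryTheory CategoryTheory.Limits MonoidalCategory CartesianMonoidalCategory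
  AlgebraicGeometry TopologicalSpace

namespace K774.TransMat

open CoactBr K690.Chart K690.EqMat K774.EvDesc

variable {k : Type u} [CommRing k] {M G Q : Over (Spec (CommRingCat.of k))} [GrpObj M]

/-- A chart of a torsor with an equivariant invertible matrix. -/
structure Ch (a : AlgGrp.Action M G) {n : ℕ} (ρ : MatRep k M n) where
  R : Type u
  [ring : CommRing R]
  [alg : Algebra k R]
  s : sp k R ⟶ G
  mat : Matrix (Fin n) (Fin n) R
  hdet : IsUnit mat.det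
  hM : ∀ (C : Type u) [CommRing C] [Algebra k C] (x y : R →ₐ[k] C) (g : sp k C ⟶ M),
      lift g (pt y ≫ s) ≫ a.act = pt x ≫ s → ρ.c g * mat.map y = mat.map x

attribute [instance] Ch.ring Ch.alg

variable {a : AlgGrp.Action M G} {π : G ⟶ Q} (hcart : IsPullback a.act (snd M G) π π)
    {n : ℕ} {ρ : MatRep k M n}

section

variable (c d e : Ch a ρ) {C C' : Type u} [CommRing C] [Algebra k C] [CommRing C'] [Algebra k C']

lemma isUnit_map (x : c.R →ₐ[k] C) : IsUnit (c.mat.map x).det := by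
  have h1 : (c.mat.map x).det = x c.mat.det := (RingHom.map_det x.toRingHom c.mat).symm
  rw [h1]
  exact c.hdet.map x

lemma inv_mul (x : c.R →ₐ[k] C) : (c.mat.map x)⁻¹ * c.mat.map x = 1 :=
  Matrix.nonsing_inv_mul _ (isUnit_map c x)

lemma mul_inv (x : c.R →ₐ[k] C) : c.mat.map x * (c.mat.map x)⁻¹ = 1 :=
  Matrix.mul_nonsing_inv _ (isUnit_map c x)

lemma map_inv (x : c.R →ₐ[k] C) (γ : C →ₐ[k] C') : ((c.mat.map x)⁻¹).map γ = (c.mat.map (γ.comp x))⁻¹ := by
  symm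
  apply Matrix.inv_eq_left_inv
  have h1 : c.mat.map (γ.comp x) = (c.mat.map x).map γ := by
    ext i j; rfl
  rw [h1, ← Matrix.map_mul, inv_mul, Matrix.map_one _ (map_zero γ) (map_one γ)]

/-- the transition matrix between two charts at a pair of points with the same image -/
noncomputable def tm (x : c.R →ₐ[k] C) (y : d.R →ₐ[k] C) (h : (pt x ≫ c.s) ≫ π = (pt y ≫ d.s) ≫ π) :
    Matrix (Fin n) (Fin n) C :=
  (c.mat.map x)⁻¹ * ρ.c (trans hcart (pt x ≫ c.s) (pt y ≫ d.s) h) * d.mat.map y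

lemma trans_congr {T : Over (Spec (CommRingCat.of k))} {x y x' y' : T ⟶ G} (hx : x = x') (hy : y = y')
    (h : x ≫ π = y ≫ π) (h' : x' ≫ π = y' ≫ π) : trans hcart x y h = trans hcart x' y' h' := by
  subst hx hy; rfl

lemma tm_congr {x x' : c.R →ₐ[k] C} {y y' : d.R →ₐ[k] C} (hx : x = x') (hy : y = y')
    (h : (pt x ≫ c.s) ≫ π = (pt y ≫ d.s) ≫ π) (h' : (pt x' ≫ c.s) ≫ π = (pt y' ≫ d.s) ≫ π) :
    tm hcart c d x y h = tm hcart c d x' y' h' := by
  subst hx hy; rfl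

lemma eq_comp (x : c.R →ₐ[k] C) (y : d.R →ₐ[k] C) (h : (pt x ≫ c.s) ≫ π = (pt y ≫ d.s) ≫ π) (γ : C →ₐ[k] C') :
    (pt (γ.comp x) ≫ c.s) ≫ π = (pt (γ.comp y) ≫ d.s) ≫ π := by
  rw [pt_comp, pt_comp]
  simp only [Category.assoc] at h ⊢
  rw [h]

lemma tm_map (x : c.R →ₐ[k] C) (y : d.R →ₐ[k] C) (h : (pt x ≫ c.s) ≫ π = (pt y ≫ d.s) ≫ π) (γ : C →ₐ[k] C') :
    (tm hcart c d x y h).map γ = tm hcart c d (γ.comp x) (γ.comp y) (eq_comp c d x y h γ) := by
  have h1 : d.mat.map (γ.comp y) = (d.mat.map y).map γ := by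
    ext i j; rfl
  have h2 : (ρ.c (trans hcart (pt x ≫ c.s) (pt y ≫ d.s) h)).map γ =
      ρ.c (trans hcart (pt (γ.comp x) ≫ c.s) (pt (γ.comp y) ≫ d.s) (eq_comp c d x y h γ)) := by
    rw [ρ.c_map, comp_trans hcart _ _ _ h (by
      simp only [Category.assoc] at h ⊢
      rw [h])]
    congr 1
    exact trans_congr hcart (by rw [pt_comp, Category.assoc]) (by rw [pt_comp, Category.assoc]) _ _
  rw [tm, Matrix.map_mul, Matrix.map_mul, map_inv, h2, tm, h1]

lemma rho_mul (x y : c.R →ₐ[k] C) (h : (pt x ≫ c.s) ≫ π = (pt y ≫ c.s) ≫ π) :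
    ρ.c (trans hcart (pt x ≫ c.s) (pt y ≫ c.s) h) * c.mat.map y = c.mat.map x :=
  c.hM C x y _ (lift_trans hcart _ _ h)

lemma mul_tm (x : c.R →ₐ[k] C) (y : d.R →ₐ[k] C) (h : (pt x ≫ c.s) ≫ π = (pt y ≫ d.s) ≫ π) :
    c.mat.map x * tm hcart c d x y h = ρ.c (trans hcart (pt x ≫ c.s) (pt y ≫ d.s) h) * d.mat.map y := by
  rw [tm, ← Matrix.mul_assoc, ← Matrix.mul_assoc, mul_inv, Matrix.one_mul]

lemma mul_left_cancel (x : c.R →ₐ[k] C) {A B : Matrix (Fin n) (Fin n) C} (h : c.mat.map x * A = c.mat.map x * B) :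
    A = B := by
  have h1 := congrArg (fun Z => (c.mat.map x)⁻¹ * Z) h
  simpa only [← Matrix.mul_assoc, inv_mul, Matrix.one_mul] using h1

lemma tm_mul (x : c.R →ₐ[k] C) (y : d.R →ₐ[k] C) (z : e.R →ₐ[k] C) (h : (pt x ≫ c.s) ≫ π = (pt y ≫ d.s) ≫ π)
    (h' : (pt y ≫ d.s) ≫ π = (pt z ≫ e.s) ≫ π) :
    tm hcart c d x y h * tm hcart d e y z h' = tm hcart c e x z (h.trans h') := by
  apply mul_left_cancel c x
  rw [← Matrix.mul_assoc, mul_tm, mul_tm, Matrix.mul_assoc, mul_tm, ← Matrix.mul_assoc, ← ρ.c_mul, trans_mul]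

lemma tm_self (x : c.R →ₐ[k] C) : tm hcart c c x x rfl = 1 := by
  apply mul_left_cancel c x
  rw [mul_tm, trans_self, ρ.c_one, Matrix.one_mul, Matrix.mul_one]

lemma tm_same (x x' : c.R →ₐ[k] C) (h : (pt x ≫ c.s) ≫ π = (pt x' ≫ c.s) ≫ π) : tm hcart c c x x' h = 1 := by
  apply mul_left_cancel c x
  rw [mul_tm, rho_mul, Matrix.mul_one]

lemma tm_indep (x x' : c.R →ₐ[k] C) (y y' : d.R →ₐ[k] C) (h : (pt x ≫ c.s) ≫ π = (pt y ≫ d.s) ≫ π)
    (h' : (pt x' ≫ c.s) ≫ π = (pt y' ≫ d.s) ≫ π) (hx : (pt x ≫ c.s) ≫ π = (pt x' ≫ c.s) ≫ π) :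
    tm hcart c d x y h = tm hcart c d x' y' h' := by
  have h1 := tm_mul hcart c c d x x' y' hx h'
  have h2 := tm_mul hcart c d d x y y' h (h.symm.trans (hx.trans h'))
  rw [tm_same, Matrix.one_mul] at h1
  rw [tm_same, Matrix.mul_one] at h2
  rw [h1, h2]

end

section descent

variable (c d : Ch a ρ) [Q.left.IsSeparated] {W₁ W₂ : Q.left.Opens}
  (hc : Flat (c.s ≫ π).left) (hd : Flat (d.s ≫ π).left) (hW₁ : Set.range (c.s ≫ π).left = (W₁ : Set Q.left))
  (hW₂ : Set.range (d.s ≫ π).left = (W₂ : Set Q.left)) (hW : IsAffineOpen (W₁ ⊓ W₂))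

include hW₁ in
lemma mem_of_range {C : Type u} [CommRing C] [Algebra k C] (x : c.R →ₐ[k] C) :
    ∀ z, (pt x ≫ c.s ≫ π).left z ∈ W₁ := by
  intro z
  rw [Over.comp_left, Scheme.Hom.comp_apply]
  have h1 : (c.s ≫ π).left ((pt x).left z) ∈ Set.range (c.s ≫ π).left := ⟨_, rfl⟩
  rw [hW₁] at h1
  exact h1

include hc hd hW₁ hW₂ hW in
/-- The transition matrix comes from a matrix over the functions on the intersection. -/
theorem exists_mat :
    ∃ A : Matrix (Fin n) (Fin n) Γ(Q.left, W₁ ⊓ W₂), ∀ (C : Type u) [CommRing C] [Algebra k C]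
      (x : c.R →ₐ[k] C) (y : d.R →ₐ[k] C) (h : (pt x ≫ c.s) ≫ π = (pt y ≫ d.s) ≫ π)
      (q : sp k C ⟶ Q) (_ : q = (pt x ≫ c.s) ≫ π) (hq : ∀ z, q.left z ∈ W₁ ⊓ W₂),
      A.map (evk q (W₁ ⊓ W₂) hq) = tm hcart c d x y h := by
  obtain ⟨D, _, _, l, r, hp⟩ := exists_pull (c.s ≫ π) (d.s ≫ π)
  have hfl : Flat (pt l ≫ c.s ≫ π).left := flat_pull hp
  have hran := range_pull hp hW₁ hW₂
  have hmem : ∀ z, (pt l ≫ c.s ≫ π).left z ∈ W₁ ⊓ W₂ := by
    intro z
    have h1 : (pt l ≫ c.s ≫ π).left z ∈ Set.range (pt l ≫ c.s ≫ π).left := ⟨_, rfl⟩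
    rw [hran] at h1
    exact h1
  have hw : (pt l ≫ c.s) ≫ π = (pt r ≫ d.s) ≫ π := by
    rw [Category.assoc, Category.assoc]
    exact hp.w
  have key : ∀ i j, ∃ b : Γ(Q.left, W₁ ⊓ W₂), evk (pt l ≫ c.s ≫ π) _ hmem b = tm hcart c d l r hw i j := by
    intro i j
    refine exists_desc_k _ hfl _ hW hran hmem _ ?_
    intro E _ _ x y hxy
    have h1 := tm_map hcart c d l r hw x
    have h2 := tm_map hcart c d l r hw y
    have h3 : tm hcart c d (x.comp l) (x.comp r) (eq_comp c d l r hw x) =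
        tm hcart c d (y.comp l) (y.comp r) (eq_comp c d l r hw y) := by
      apply tm_indep
      rw [pt_comp, pt_comp]
      simpa only [Category.assoc] using hxy
    rw [h3, ← h2] at h1
    exact congrFun (congrFun h1 i) j
  choose b hb using key
  refine ⟨Matrix.of b, ?_⟩
  intro C _ _ x y h q hqx hq
  obtain ⟨z, hzl, hzr⟩ := exists_lift hp x y (by simpa only [Category.assoc] using h)
  have h1 := tm_map hcart c d l r hw z
  have h2 : tm hcart c d (z.comp l) (z.comp r) (eq_comp c d l r hw z) = tm hcart c d x y h :=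
    tm_congr hcart c d hzl hzr _ _
  rw [← h2, ← h1]
  have hqz : q = pt z ≫ pt l ≫ c.s ≫ π := by
    rw [hqx, ← hzl, pt_comp]
    simp only [Category.assoc]
  subst hqz
  ext i j
  rw [Matrix.map_apply, Matrix.map_apply, Matrix.of_apply, evk_comp z _ _ hmem, hb]

end descent

end K774.TransMat
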